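import Mathlib
import Groth.Prelude.Def_DRing2

/-!
Flat base change for `Tor` of modules.
-/

set_option autoImplicit false
set_option linter.style.haveILetI false

universe u

open CategoryTheory CategoryTheory.Limits CategoryTheory.MonoidalCategory TensorProduct

namespace Groth.Agent.TorFlatBC

variable (A A' : Type u) [CommRing A] [CommRing A'] [Algebra A A']

/-- Base change of modules. -/
noncomputable def bcFun : ModuleCat.{u} A ⥤ ModuleCat.{u} A' where
  obj X := ModuleCat.of A' (A' ⊗[A] X)
  map f := ModuleCat.ofHom (f.hom.baseChange A')
  map_id X := by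
    apply ModuleCat.hom_ext
    rw [ModuleCat.hom_ofHom, ModuleCat.hom_id, LinearMap.baseChange_id, ModuleCat.hom_id]
  map_comp f g := by
    apply ModuleCat.hom_ext
    rw [ModuleCat.hom_ofHom, ModuleCat.hom_comp, ModuleCat.hom_comp, ModuleCat.hom_ofHom,
      ModuleCat.hom_ofHom, LinearMap.baseChange_comp]

instance : (bcFun A A').Additive where
  map_add {X Y f g} := by
    apply ModuleCat.hom_ext
    exact LinearMap.baseChange_add _ _

theorem preservesHomology_bcFun [Module.Flat A A'] : (bcFun A A').PreservesHomology := by
  refine Functor.preservesHomology_of_map_exact _ fun S hS => ?_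
  rw [ShortComplex.moduleCat_exact_iff_range_eq_ker] at hS ⊢
  have hex : Function.Exact (S.f.hom.lTensor A') (S.g.hom.lTensor A') :=
    Module.Flat.lTensor_exact A' (LinearMap.exact_iff.mpr hS.symm)
  ext x
  exact (hex x).symm

theorem preservesProjective_bcFun : (bcFun A A').PreservesProjectiveObjects where
  projective_obj {X} hX := by
    haveI : Projective X := hX
    haveI : Module.Projective A X := inferInstance
    exact (IsProjective.iff_projective (R := A') (A' ⊗[A] X)).mp inferInstance

theorem preservesHomology_restrict :
    (ModuleCat.restrictScalars.{u} (algebraMap A A')).PreservesHomology := by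
  refine Functor.preservesHomology_of_map_exact _ fun S hS => ?_
  rw [ShortComplex.moduleCat_exact_iff] at hS ⊢
  exact hS

variable {A A'} (P' : Type u) [AddCommGroup P'] [Module A' P'] [Module A P'] [IsScalarTower A A' P']

/-- Cancelling the base change, as a linear equivalence. -/
noncomputable def cancelEquiv (X : ModuleCat.{u} A) :
    ↥((ModuleCat.restrictScalars.{u} (algebraMap A A')).obj
        ((tensorLeft (ModuleCat.of A' P')).obj ((bcFun A A').obj X))) ≃ₗ[A]
      ↥((tensorLeft (ModuleCat.of A P')).obj X) where
  toFun := AlgebraTensorModule.cancelBaseChange A A' A' P' X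
  invFun := (AlgebraTensorModule.cancelBaseChange A A' A' P' X).symm
  left_inv := (AlgebraTensorModule.cancelBaseChange A A' A' P' X).left_inv
  right_inv := (AlgebraTensorModule.cancelBaseChange A A' A' P' X).right_inv
  map_add' := (AlgebraTensorModule.cancelBaseChange A A' A' P' X).map_add
  map_smul' a x := by
    refine ((AlgebraTensorModule.cancelBaseChange A A' A' P' X).map_smul (algebraMap A A' a) x).trans ?_
    exact algebraMap_smul A' a (AlgebraTensorModule.cancelBaseChange A A' A' P' X x)

/-- Cancelling the base change, after restriction of scalars. -/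
noncomputable def cancelIso (X : ModuleCat.{u} A) :
    (ModuleCat.restrictScalars.{u} (algebraMap A A')).obj
        ((tensorLeft (ModuleCat.of A' P')).obj ((bcFun A A').obj X)) ≅
      (tensorLeft (ModuleCat.of A P')).obj X :=
  (cancelEquiv P' X).toModuleIso

theorem cancelIso_natural {X Y : ModuleCat.{u} A} (f : X ⟶ Y) :
    (ModuleCat.restrictScalars.{u} (algebraMap A A')).map
        ((tensorLeft (ModuleCat.of A' P')).map ((bcFun A A').map f)) ≫ (cancelIso P' Y).hom =
      (cancelIso P' X).hom ≫ (tensorLeft (ModuleCat.of A P')).map f := by
  apply ModuleCat.hom_ext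
  apply LinearMap.ext
  have key : ∀ z : P' ⊗[A'] (A' ⊗[A] X),
      AlgebraTensorModule.cancelBaseChange A A' A' P' Y ((f.hom.baseChange A').lTensor P' z) =
        f.hom.lTensor P' (AlgebraTensorModule.cancelBaseChange A A' A' P' X z) := by
    intro z
    induction z using TensorProduct.induction_on with
    | zero => simp
    | add x y hx hy => simp only [map_add, hx, hy]
    | tmul p w =>
      induction w using TensorProduct.induction_on with
      | zero => simp
      | add x y hx hy => simp only [tmul_add, map_add, hx, hy]
      | tmul a x => simp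
  exact fun z => key z

/-- A semilinear bijection comparing `Tor` along a flat base change. -/
theorem exists_tor_bc [Module.Flat A A'] (X : ModuleCat.{u} A) (n : ℕ) :
    ∃ φ : ((CategoryTheory.Tor (ModuleCat.{u} A) n).obj (ModuleCat.of A P')).obj X →ₛₗ[algebraMap A A']
      ((CategoryTheory.Tor (ModuleCat.{u} A') n).obj (ModuleCat.of A' P')).obj ((bcFun A A').obj X),
      Function.Bijective φ := by
  haveI := preservesHomology_bcFun A A'
  haveI := preservesProjective_bcFun A A'
  haveI := preservesHomology_restrict A A'
  let G := ModuleCat.restrictScalars.{u} (algebraMap A A')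
  let R := projectiveResolution X
  let R' : ProjectiveResolution ((bcFun A A').obj X) := (bcFun A A').mapProjectiveResolution R
  let K := ((tensorLeft (ModuleCat.of A' P')).mapHomologicalComplex _).obj R'.complex
  let L := ((tensorLeft (ModuleCat.of A P')).mapHomologicalComplex _).obj R.complex
  let e : (G.mapHomologicalComplex _).obj K ≅ L :=
    HomologicalComplex.Hom.isoOfComponents (fun m => cancelIso P' (R.complex.X m))
      (fun i j _ => (cancelIso_natural P' (R.complex.d i j)).symm)
  let i₁ : ((CategoryTheory.Tor (ModuleCat.{u} A) n).obj (ModuleCat.of A P')).obj X ≅ G.obj (K.homology n) :=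
    R.isoLeftDerivedObj (tensorLeft (ModuleCat.of A P')) n ≪≫
      (HomologicalComplex.homologyMapIso e.symm n) ≪≫ (K.sc n).mapHomologyIso G
  let i₂ : ((CategoryTheory.Tor (ModuleCat.{u} A') n).obj (ModuleCat.of A' P')).obj ((bcFun A A').obj X) ≅
      K.homology n :=
    R'.isoLeftDerivedObj (tensorLeft (ModuleCat.of A' P')) n
  refine ⟨
    { toFun := fun t => i₂.inv.hom (show K.homology n from i₁.hom.hom t)
      map_add' := fun a b => by
        rw [map_add]
        exact map_add i₂.inv.hom _ _
      map_smul' := fun a t => by
        rw [map_smul]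
        exact map_smul i₂.inv.hom (algebraMap A A' a) _ }, ?_⟩
  exact i₂.symm.toLinearEquiv.bijective.comp i₁.toLinearEquiv.bijective

end Groth.Agent.TorFlatBC
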